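import Groth.Prelude.Def_RelProj
import Groth.Agent.S7395
import Groth.Agent.Lim.K339.SepModel
import Groth.Agent.Lim.K339.ChowStep
import Groth.Agent.CalgB.AmpleProj
import Groth.Agent.Ega2.RelAmpQAff
import Groth.Agent.Ega2.QuasiAffine
import Mathlib.AlgebraicGeometry.ZariskisMainTheorem

/-!
# Chow's lemma over a quasi-compact quasi-separated base, version with a nonempty open

`exists_chow`: `f : X ⟶ S` separated of finite type, `S` qcqs, `X` nonempty; no finiteness assumption on the
irreducible components.  `isHProjective`: then `π` is H-projective.  `isQuasiProjective_of_immersion`.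
-/

set_option autoImplicit false
universe u
open CategoryTheory AlgebraicGeometry
open Groth.Agent.Dix.ProjProper

namespace K116.Chow

theorem exists_chow {X S : Scheme.{u}} (f : X ⟶ S) [CompactSpace S]
    [QuasiSeparatedSpace S] [IsSeparated f] [LocallyOfFiniteType f] [QuasiCompact f] [Nonempty X] :
    ∃ (n : ℕ) (X' : Scheme.{u}) (π : X' ⟶ X) (j : X' ⟶ CohB1.ProjSpaceOver n S),
      IsImmersion j ∧ j ≫ CohB1.ProjSpaceOver.toBase n S = π ≫ f ∧ IsProper π ∧ Surjective π ∧
      ∃ U : X.Opens, (U : Set X).Nonempty ∧ IsIso (π ∣_ U) := by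
  obtain ⟨Y, g, i, h1, h2, h3, h4, h5⟩ := Groth.Agent.S7395.result f
  obtain ⟨I, _, _, D, c, hc, e, k, Y₀, g₀, q, sq, h6, h7, h8, hD, hN⟩ := K339.SepModel.exists_model g
  have hXc : CompactSpace X := QuasiCompact.compactSpace_of_compactSpace f
  have hNk := hN k
  have hqZs : QuasiSeparatedSpace Y₀ := quasiSeparatedSpace_of_quasiSeparated g₀
  let p : S ⟶ D.obj k := e.inv ≫ c.π.app k
  have sqZ : IsPullback q g g₀ p := by
    exact sq.of_iso (Iso.refl _) (Iso.refl _) e (Iso.refl _) (by simp) (by simp) (by simp) (by simp [p])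
  -- the scheme theoretic image
  let h : X ⟶ Y₀ := i ≫ q
  have hqc : QuasiCompact h := inferInstance
  let W := h.image
  let gW : W ⟶ D.obj k := h.imageι ≫ g₀
  have w : h.toImage ≫ gW = f ≫ p := by
    rw [← Category.assoc, Scheme.Hom.toImage_imageι, Category.assoc, sqZ.w, reassoc_of% h5]
  have w' : h ≫ g₀ = f ≫ p := by
    rw [Category.assoc, sqZ.w, reassoc_of% h5]
  have himm' : IsImmersion (Limits.pullback.lift h f w') := by
    have hl : Limits.pullback.lift h f w' = i ≫ sqZ.isoPullback.hom := by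
      apply Limits.pullback.hom_ext
      · rw [Limits.pullback.lift_fst, Category.assoc, sqZ.isoPullback_hom_fst]
      · rw [Limits.pullback.lift_snd, Category.assoc, sqZ.isoPullback_hom_snd, h5]
    rw [hl]
    infer_instance
  have himm : IsImmersion (Limits.pullback.lift h.toImage f w) := by
    let r : Limits.pullback gW p ⟶ Limits.pullback g₀ p :=
      Limits.pullback.lift (Limits.pullback.fst gW p ≫ h.imageι) (Limits.pullback.snd gW p) (by
        rw [Category.assoc]
        exact Limits.pullback.condition)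
    have hr : Limits.pullback.lift h.toImage f w ≫ r = Limits.pullback.lift h f w' := by
      apply Limits.pullback.hom_ext
      · rw [Category.assoc, Limits.pullback.lift_fst, Limits.pullback.lift_fst_assoc,
          Scheme.Hom.toImage_imageι, Limits.pullback.lift_fst]
      · rw [Category.assoc, Limits.pullback.lift_snd, Limits.pullback.lift_snd, Limits.pullback.lift_snd]
    have : IsImmersion (Limits.pullback.lift h.toImage f w ≫ r) := by rw [hr]; exact himm'
    exact IsImmersion.of_comp _ r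
  obtain ⟨n, X', π, j, a1, a2, a3, a4, U, hU, hiso⟩ :=
    K339.ChowStep.chow_step f h.toImage gW p w himm
  refine ⟨n, X', π, j, a1, a2, a3, a4, h.toImage ⁻¹ᵁ U, ?_, hiso⟩
  obtain ⟨x₀⟩ := ‹Nonempty X›
  obtain ⟨z, -, hz⟩ := hU.inter_open_nonempty _ isOpen_univ ⟨h.toImage x₀, trivial⟩
  obtain ⟨-, hy, x, rfl⟩ := (Scheme.Hom.denseRange h.toImage).inter_open_nonempty _ U.2 ⟨z, hz⟩
  exact ⟨x, hy⟩

theorem isHProjective {X S X' : Scheme.{u}} {f : X ⟶ S} {n : ℕ} {π : X' ⟶ X}
    {j : X' ⟶ CohB1.ProjSpaceOver n S} [IsImmersion j]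
    (w : j ≫ CohB1.ProjSpaceOver.toBase n S = π ≫ f) [IsProper π] : RelProj.IsHProjective π := by
  have sqP := isPullback_mapBase n f
  let i : X' ⟶ CohB1.ProjSpaceOver n X := sqP.lift j π w
  have hi1 : i ≫ mapBase n f = j := sqP.lift_fst _ _ _
  have hi2 : i ≫ CohB1.ProjSpaceOver.toBase n X = π := sqP.lift_snd _ _ _
  refine ⟨n, i, ?_, hi2⟩
  have h1 : IsProper (i ≫ CohB1.ProjSpaceOver.toBase n X) := by rw [hi2]; infer_instance
  have h2 : IsProper i := IsProper.of_comp i (CohB1.ProjSpaceOver.toBase n X)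
  have h3 : Mono (i ≫ mapBase n f) := by rw [hi1]; infer_instance
  have h4 : Mono i := mono_of_mono i (mapBase n f)
  exact (IsClosedImmersion.iff_isProper_and_mono i).mpr ⟨h2, h4⟩

theorem isQuasiProjective_of_immersion {X S : Scheme.{u}} {n : ℕ} (j : X ⟶ CohB1.ProjSpaceOver n S)
    [IsImmersion j] [QuasiCompact j] :
    RelProj.IsQuasiProjective (j ≫ CohB1.ProjSpaceOver.toBase n S) := by
  obtain ⟨E, hE⟩ := Groth.Agent.CalgB.AmpleProj.exists_isRelAmple_projSpaceOver n S
  refine ⟨inferInstance, inferInstance, (Scheme.Modules.pullback j).obj E, ?_⟩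
  exact Groth.Agent.Ega2.RelAmpQAff.isRelAmple_pullback_of_qaff _ j (Groth.Agent.Ega2.QuasiAffine.qaff_of_isImmersion j) E hE

end K116.Chow
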